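import Mathlib
import Cfsg.Agent.Chars.Gallagher
import Cfsg.Agent.Chars.IrrTools
import Cfsg.Agent.Chars.NonVanish
import Cfsg.Agent.Chars.Clifford
import Cfsg.Agent.Chars.Construct
import Cfsg.Agent.Blocks.Brauer
import Cfsg.Agent.Frobenius.FpfGroups

/-!
# Pairs `(G, N)` in which every coset of `N` outside `N` lies in one conjugacy class
-/

set_option autoImplicit false
set_option linter.unusedSectionVars false

namespace Cfsg.Lib.Camina

open Subgroup Cfsg.Lib.Chars
open scoped commutatorElement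

universe u

variable {G : Type u} [Group G]

/-- Every coset of `N` outside `N` lies in one conjugacy class. -/
def IsPair (N : Subgroup G) : Prop := ∀ g : G, g ∉ N → ∀ n ∈ N, ∃ x : G, x * g * x⁻¹ = g * n

/-- `|C_G(g)| = |C_{G/N}(gN)|`. -/
theorem card_centralizer [Finite G] {N : Subgroup G} [N.Normal] (h : IsPair N) {g : G} (hg : g ∉ N) :
    Nat.card (centralizer ({g} : Set G)) =
      Nat.card (centralizer ({QuotientGroup.mk' N g} : Set (G ⧸ N))) := by
  classical
  set C' := (centralizer ({QuotientGroup.mk' N g} : Set (G ⧸ N))).comap (QuotientGroup.mk' N)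
    with hC'
  have memC : ∀ x : G, x ∈ C' ↔
      QuotientGroup.mk' N x * QuotientGroup.mk' N g = QuotientGroup.mk' N g * QuotientGroup.mk' N x :=
    fun x => mem_centralizer_singleton_iff
  have hCle : centralizer ({g} : Set G) ≤ C' := fun x hx => by
    rw [memC, ← map_mul, ← map_mul,
      mem_centralizer_singleton_iff.mp hx]
  let φ : C' → N := fun x => ⟨g⁻¹ * ((x : G) * g * (x : G)⁻¹), by
    have hx := x.2
    rw [memC] at hx
    rw [← QuotientGroup.eq_one_iff (N := N)]
    change QuotientGroup.mk' N (g⁻¹ * ((x : G) * g * (x : G)⁻¹)) = 1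
    rw [map_mul, map_mul, map_mul, map_inv, map_inv, hx]
    group⟩
  have hφ : Function.Surjective φ := by
    intro n
    obtain ⟨x, hx⟩ := h g hg n n.2
    refine ⟨⟨x, ?_⟩, Subtype.ext ?_⟩
    · rw [memC]
      have h2 := congrArg (QuotientGroup.mk' N) hx
      rw [map_mul, map_mul, map_mul, map_inv,
        (QuotientGroup.eq_one_iff (n : G)).mpr n.2 |> (fun e => (show QuotientGroup.mk' N (n : G) = 1 from e)),
        mul_one, mul_inv_eq_iff_eq_mul] at h2
      exact h2
    · show g⁻¹ * (x * g * x⁻¹) = n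
      rw [hx]; group
  have hfib : ∀ x y : C', φ x = φ y ↔ (x : G)⁻¹ * y ∈ centralizer ({g} : Set G) := by
    intro x y
    rw [Subtype.ext_iff, mem_centralizer_singleton_iff]
    show g⁻¹ * _ = g⁻¹ * _ ↔ _
    rw [mul_right_inj]
    constructor
    · intro e
      calc (x : G)⁻¹ * y * g = (x : G)⁻¹ * ((y : G) * g * (y : G)⁻¹) * y := by group
        _ = (x : G)⁻¹ * ((x : G) * g * (x : G)⁻¹) * y := by rw [e]
        _ = g * ((x : G)⁻¹ * y) := by group
    · intro e
      calc (x : G) * g * (x : G)⁻¹ = (x : G) * (g * ((x : G)⁻¹ * y)) * (y : G)⁻¹ := by group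
        _ = (x : G) * ((x : G)⁻¹ * y * g) * (y : G)⁻¹ := by rw [e]
        _ = (y : G) * g * (y : G)⁻¹ := by group
  -- count
  let ψ : C' ⧸ (centralizer ({g} : Set G)).subgroupOf C' → N :=
    Quotient.lift φ fun a b hab => (hfib a b).mpr (by
      have := QuotientGroup.leftRel_apply.mp hab
      simpa [mem_subgroupOf] using this)
  have hψ : Function.Bijective ψ := by
    constructor
    · intro a b
      induction a using Quotient.inductionOn' with
      | _ a =>
        induction b using Quotient.inductionOn' with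
        | _ b =>
          intro e
          refine Quotient.sound' (QuotientGroup.leftRel_apply.mpr ?_)
          rw [mem_subgroupOf, Subgroup.coe_mul, Subgroup.coe_inv]
          exact (hfib a b).mp e
    · intro n
      obtain ⟨x, hx⟩ := hφ n
      exact ⟨Quotient.mk'' x, hx⟩
  have h1 := Subgroup.card_eq_card_quotient_mul_card_subgroup
    ((centralizer ({g} : Set G)).subgroupOf C')
  rw [Nat.card_eq_of_bijective ψ hψ, Nat.card_congr (subgroupOfEquivOfLe hCle).toEquiv] at h1
  have h2 : Nat.card C' = Nat.card N * Nat.card (centralizer ({QuotientGroup.mk' N g} : Set (G ⧸ N))) := by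
    have e1 := C'.card_mul_index
    have e2 := (centralizer ({QuotientGroup.mk' N g} : Set (G ⧸ N))).card_mul_index
    have e3 : C'.index = (centralizer ({QuotientGroup.mk' N g} : Set (G ⧸ N))).index :=
      index_comap_of_surjective _ (QuotientGroup.mk'_surjective N)
    rw [e3, Subgroup.card_eq_card_quotient_mul_card_subgroup N, ← e2] at e1
    refine Nat.eq_of_mul_eq_mul_right (Nat.pos_of_ne_zero
      (centralizer ({QuotientGroup.mk' N g} : Set (G ⧸ N))).index_ne_zero_of_finite) ?_
    rw [e1]; ring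
  rw [h2] at h1
  exact (Nat.eq_of_mul_eq_mul_left Nat.card_pos h1).symm

/-- A character without `M`-fixed vectors vanishes at an element whose `N`-coset lies in one class. -/
theorem char_vanish_of_elt [Finite G] {N : Subgroup G} [N.Normal] {M : Subgroup G}
    [Fintype M] (hMN : M ≤ N) {F : G → ℂ} (hF : Cfsg.IsCharacter G F)
    (h0 : ∑ m : M, F m = 0) {g : G} (hg : ∀ n ∈ N, ∃ x : G, x * g * x⁻¹ = g * n) : F g = 0 := by
  classical
  haveI := Fintype.ofFinite N
  obtain ⟨d, ρ, rfl⟩ := hF
  let σ : Representation ℂ M (Fin d → ℂ) := ρ.comp M.subtype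
  haveI : Invertible (Fintype.card M : ℂ) :=
    invertibleOfNonzero (Nat.cast_ne_zero.mpr Fintype.card_pos.ne')
  have hproj := σ.isProj_averageMap
  have htr : LinearMap.trace ℂ _ σ.averageMap = (Module.finrank ℂ σ.invariants : ℂ) := hproj.trace
  have havg : σ.averageMap = ⅟(Fintype.card M : ℂ) • ∑ m : M, ρ m := by
    simp [Representation.averageMap, GroupAlgebra.average, σ, map_sum]
  rw [havg, map_smul, map_sum] at htr
  change ⅟(Fintype.card M : ℂ) • ∑ m : M, ρ.character m = _ at htr
  rw [h0, smul_zero] at htr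
  have hinv : σ.invariants = ⊥ := Submodule.finrank_eq_zero.mp (Nat.cast_eq_zero.mp htr.symm)
  have hsum0 : ∑ n : N, ρ n = 0 := by
    refine LinearMap.ext fun v => ?_
    have : (∑ n : N, ρ n) v ∈ σ.invariants := by
      intro m
      show ρ m _ = _
      rw [LinearMap.sum_apply, map_sum]
      refine Fintype.sum_equiv (Equiv.mulLeft (⟨m, hMN m.2⟩ : N)) _ _ fun n => ?_
      show ρ m (ρ n v) = ρ ((⟨m, hMN m.2⟩ : N) * n : N) v
      rw [Subgroup.coe_mul, map_mul, Module.End.mul_apply]
    rw [hinv, Submodule.mem_bot] at this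
    rw [this, LinearMap.zero_apply]
  have h1 : ∑ n : N, ρ.character (g * n) = (Fintype.card N : ℂ) * ρ.character g := by
    rw [Finset.sum_eq_card_nsmul (b := ρ.character g) fun n _ => ?_, Finset.card_univ, nsmul_eq_mul]
    obtain ⟨x, hx⟩ := hg n n.2
    rw [← hx, Representation.char_conj]
  have h2 : ∑ n : N, ρ.character (g * n) = 0 := by
    show ∑ n : N, LinearMap.trace ℂ _ (ρ (g * n)) = 0
    rw [← map_sum]
    simp only [map_mul, ← Finset.mul_sum, hsum0, mul_zero, map_zero]
  rw [h2] at h1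
  rcases mul_eq_zero.mp h1.symm with h3 | h3
  · exact absurd (Nat.cast_eq_zero.mp h3) Fintype.card_pos.ne'
  · exact h3

/-- A character without `M`-fixed vectors vanishes off `N ≥ M`. -/
theorem char_vanish [Finite G] {N : Subgroup G} [N.Normal] (h : IsPair N) {M : Subgroup G}
    [Fintype M] (hMN : M ≤ N) {F : G → ℂ} (hF : Cfsg.IsCharacter G F)
    (h0 : ∑ m : M, F m = 0) {g : G} (hg : g ∉ N) : F g = 0 :=
  char_vanish_of_elt hMN hF h0 (h g hg)

/-- The subgroup generated by the elements of order prime to `p`. -/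
def coPart (p : ℕ) (N : Subgroup G) : Subgroup G :=
  closure {x | x ∈ N ∧ ¬ p ∣ orderOf x}

theorem coPart_le (p : ℕ) (N : Subgroup G) : coPart p N ≤ N :=
  (closure_le N).mpr fun _ hx => hx.1

instance coPart_normal (p : ℕ) (N : Subgroup G) [hN : N.Normal] : (coPart p N).Normal := by
  refine ⟨fun x hx g => ?_⟩
  have h := MonoidHom.map_closure (MulAut.conj g).toMonoidHom {x : G | x ∈ N ∧ ¬ p ∣ orderOf x}
  have hmem : (MulAut.conj g).toMonoidHom x ∈ (coPart p N).map (MulAut.conj g).toMonoidHom :=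
    mem_map_of_mem _ hx
  rw [coPart, h] at hmem
  refine closure_mono ?_ hmem
  rintro _ ⟨y, ⟨hy, hyo⟩, rfl⟩
  refine ⟨hN.conj_mem y hy g, ?_⟩
  show ¬ p ∣ orderOf (MulAut.conj g y)
  rwa [MulEquiv.orderOf_eq]

theorem exists_pow_mem_coPart [Finite G] {p : ℕ} (hp : p.Prime) {N : Subgroup G} {x : G}
    (hx : x ∈ N) : ∃ k : ℕ, x ^ p ^ k ∈ coPart p N := by
  refine ⟨(orderOf x).factorization p, subset_closure ⟨N.pow_mem hx _, ?_⟩⟩
  rw [orderOf_pow' x (pow_ne_zero _ hp.ne_zero), Nat.gcd_eq_right (Nat.ordProj_dvd _ _)]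
  exact Nat.not_dvd_ordCompl hp (orderOf_pos x).ne'

/-- If the coset `g N` of a `p`-element lies in one class then the subgroup generated by the
`p'`-elements of `N` has order prime to `p`. -/
theorem not_dvd_card_coPart_of_elt [Finite G] {N : Subgroup G} [N.Normal] {p : ℕ}
    (hp : p.Prime) {g : G} (hgp : ∃ k, g ^ p ^ k = 1)
    (hg : ∀ n ∈ N, ∃ x : G, x * g * x⁻¹ = g * n) : ¬ p ∣ Nat.card (coPart p N) := by
  classical
  intro hpM
  haveI := Fact.mk hp
  haveI := Fintype.ofFinite G
  set M := coPart p N with hMdef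
  haveI : M.Normal := coPart_normal p N
  haveI := Fintype.ofFinite M
  have hgpg : IsPGroup p (zpowers g) := by
    obtain ⟨k, hk⟩ := hgp
    obtain ⟨j, -, hj⟩ := (Nat.dvd_prime_pow hp).mp (orderOf_dvd_of_pow_eq_one hk)
    exact IsPGroup.of_card (by rw [Nat.card_zpowers, hj])
  obtain ⟨P, hPle⟩ := hgpg.exists_le_sylow
  have hgP : g ∈ (P : Subgroup G) := hPle (mem_zpowers g)
  letI : MulAction (P : Subgroup G) (Cfsg.IrrCharacter M) :=
    { smul := fun x θ => ⟨conjN M ((x : G)⁻¹) θ, IsIrrCharacter.conjN θ.2 _⟩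
      one_smul := fun θ => Subtype.ext (by
        show conjN M ((1 : G)⁻¹) (θ : M → ℂ) = _
        rw [inv_one, conjN_one])
      mul_smul := fun a b θ => Subtype.ext (by
        show conjN M (((a * b : (P : Subgroup G)) : G)⁻¹) (θ : M → ℂ) = _
        rw [Subgroup.coe_mul, mul_inv_rev]
        first
          | exact (conjN_mul M _ _ _).symm
          | exact conjN_mul M _ _ _) }
  let w : Cfsg.IrrCharacter M → ZMod p := fun θ => ((deg (θ : M → ℂ) ^ 2 : ℕ) : ZMod p)
  have hw : ∀ (k : (P : Subgroup G)) θ, w (k • θ) = w θ := by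
    intro k θ
    have : deg ((k • θ : Cfsg.IrrCharacter M) : M → ℂ) = deg (θ : M → ℂ) := by
      unfold deg
      show ⌊(conjN M ((k : G)⁻¹) (θ : M → ℂ) 1).re⌋₊ = _
      rw [conjN_eq_comp]
      simp
    simp only [w, this]
  haveI : Fintype (Cfsg.IrrCharacter M) := Fintype.ofFinite _
  have hsum := Cfsg.Lib.Blocks.sum_eq_sum_fixed (P := (P : Subgroup G)) P.2
    (fun r : ZMod p => by rw [nsmul_eq_mul, ZMod.natCast_self, zero_mul]) w hw
  have htot : ∑ θ, w θ = 0 := by
    simp only [w, ← Nat.cast_sum]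
    rw [ZMod.natCast_eq_zero_iff]
    have := sum_deg_sq_nat (G := M)
    convert hpM
    convert this
  rw [htot] at hsum
  let one : Cfsg.IrrCharacter M := ⟨fun _ => 1, isIrrCharacter_one⟩
  obtain ⟨θ, hθfix, hθd, hθ1⟩ : ∃ θ : Cfsg.IrrCharacter M,
      θ ∈ MulAction.fixedPoints (P : Subgroup G) (Cfsg.IrrCharacter M) ∧
      ¬ p ∣ deg (θ : M → ℂ) ∧ θ ≠ one := by
    by_contra hc
    push Not at hc
    have hone : one ∈ MulAction.fixedPoints (P : Subgroup G) (Cfsg.IrrCharacter M) :=
      fun k => Subtype.ext (by rw [← conjN_one M (one : M → ℂ)]; rfl)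
    rw [Finset.sum_eq_single_of_mem one (by simpa using hone) fun θ hθ hne => ?_] at hsum
    · simp [w, one, deg] at hsum
    · have hd : p ∣ deg (θ : M → ℂ) := by
        by_contra hnd
        exact hne (hc θ (by simpa using hθ) hnd)
      simp only [w, ZMod.natCast_eq_zero_iff]
      exact dvd_pow hd two_ne_zero
  -- extend to `H = M ⊔ P`
  set H := M ⊔ (P : Subgroup G) with hH
  have hMH : M ≤ H := le_sup_left
  set M' := M.subgroupOf H with hM'
  haveI := Fintype.ofFinite H
  haveI := Fintype.ofFinite M'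
  let e := subgroupOfEquivOfLe hMH
  let ϑ : M' → ℂ := fun x => (θ : M → ℂ) (e x)
  have hϑ : Cfsg.IsIrrCharacter M' ϑ := by
    refine irr_of_comp_irr (IsCharacter.comp_hom (isCharacter_of_irr θ.2) e.toMonoidHom)
      e.symm.toMonoidHom ?_
    convert θ.2 using 1
    funext x
    simp [ϑ]
  have hinv : ∀ x : H, conjN M' x ϑ = ϑ := by
    intro x
    obtain ⟨m, hm, y, hy, hxy⟩ := mem_sup_of_normal_left.mp x.2
    have h1 : conjN M (x : G) (θ : M → ℂ) = θ := by
      rw [← hxy]
      have hy' : conjN M y (θ : M → ℂ) = θ := by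
        have := congrArg Subtype.val (hθfix ⟨y⁻¹, inv_mem hy⟩)
        change conjN M (y⁻¹)⁻¹ (θ : M → ℂ) = θ at this
        rwa [inv_inv] at this
      have hm' : conjN M m (θ : M → ℂ) = θ :=
        conjN_of_mem (isClassFunction_irr θ) ⟨m, hm⟩
      rw [conjN_mul, hm', hy']
    funext z
    calc conjN M' x ϑ z = conjN M (x : G) (θ : M → ℂ) (e z) := congrArg (θ : M → ℂ) (Subtype.ext rfl)
      _ = ϑ z := by rw [h1]
  have hidxH : ∃ k, M'.index = p ^ k := by
    have hdvd : M'.index ∣ Nat.card (P : Subgroup G) := by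
      change M.relIndex (M ⊔ (P : Subgroup G)) ∣ _
      rw [relIndex_sup_left]
      exact relIndex_dvd_card _ _
    obtain ⟨k, hk⟩ := IsPGroup.iff_card.mp P.2
    obtain ⟨j, -, hj⟩ := (Nat.dvd_prime_pow hp).mp (hk ▸ hdvd)
    exact ⟨j, hj⟩
  obtain ⟨k, hk⟩ := hidxH
  have hϑ1 : ϑ 1 = (deg (θ : M → ℂ) : ℕ) := by
    show (θ : M → ℂ) (e 1) = _
    rw [map_one, irr_apply_one_eq_deg θ]
  obtain ⟨δ, hδ⟩ := detChar_is_hom (isCharacter_of_irr hϑ)
  have hdo : ¬ p ∣ Cfsg.detOrder ϑ := by
    rw [Cfsg.detOrder, hδ, orderOf_linear]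
    intro hd
    obtain ⟨x, hx⟩ : ∃ x : M', p ∣ orderOf (δ x) := by
      by_contra hc
      push Not at hc
      haveI : IsCyclic δ.range := isCyclic_of_subgroup_isDomain (Units.coeHom ℂ |>.comp δ.range.subtype)
        (fun a b hab => Subtype.ext (Units.ext hab))
      haveI : Finite δ.range := Set.finite_range δ
      have hord : orderOf δ ∣ Nat.card δ.range := orderOf_dvd_of_pow_eq_one (MonoidHom.ext fun z => by
        rw [MonoidHom.pow_apply, MonoidHom.one_apply]
        have := pow_card_eq_one' (x := (⟨δ z, z, rfl⟩ : δ.range))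
        simpa using congrArg Subtype.val this)
      obtain ⟨⟨_, z, rfl⟩, hz⟩ := exists_prime_orderOf_dvd_card' p (hd.trans hord)
      exact hc z (by rw [← hz, ← Subgroup.orderOf_coe])
    have hgen : ∀ y : M', ¬ p ∣ orderOf (δ y) := by
      intro y
      let f : M →* ℂˣ := δ.comp e.symm.toMonoidHom
      suffices ∀ (z : G) (hz : z ∈ M), ¬ p ∣ orderOf (f ⟨z, hz⟩) by
        have := this (e y : M) (e y).2
        simpa [f] using this
      intro z hz
      refine closure_induction (p := fun z hz => ¬ p ∣ orderOf (f ⟨z, hz⟩)) ?_ ?_ ?_ ?_ hz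
      · intro a ha hd'
        refine ha.2 (hd'.trans ((orderOf_map_dvd f _).trans ?_))
        rw [← Subgroup.orderOf_coe]
      · intro hd'
        rw [show (⟨1, M.one_mem⟩ : M) = 1 from rfl, map_one, orderOf_one] at hd'
        exact hp.one_lt.ne' (Nat.dvd_one.mp hd')
      · intro a b ha hb iha ihb hd'
        rw [show (⟨a * b, M.mul_mem ha hb⟩ : M) = ⟨a, ha⟩ * ⟨b, hb⟩ from rfl, map_mul] at hd'
        have := hd'.trans ((Commute.all (f ⟨a, ha⟩) (f ⟨b, hb⟩)).orderOf_mul_dvd_lcm)
        rcases hp.dvd_mul.mp (this.trans (Nat.lcm_dvd_mul _ _)) with h | h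
        · exact iha h
        · exact ihb h
      · intro a ha iha hd'
        rw [show (⟨a⁻¹, M.inv_mem ha⟩ : M) = ⟨a, ha⟩⁻¹ from rfl, map_inv, orderOf_inv] at hd'
        exact iha hd'
    exact hgen x hx
  have hcop : Nat.Coprime M'.index (Cfsg.detOrder ϑ * deg (θ : M → ℂ)) := by
    rw [hk]
    exact Nat.Coprime.pow_left _ ((hp.coprime_iff_not_dvd).mpr fun h =>
      (hp.dvd_mul.mp h).elim hdo hθd)
  obtain ⟨χ, ⟨hχ, hχM, -⟩, -⟩ := exists_canonical_extension M' hϑ hinv hϑ1 hcop
  have hχ1 : χ 1 = (deg (θ : M → ℂ) : ℕ) := by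
    rw [show (1 : H) = ((1 : M') : H) from rfl, hχM, hϑ1]
  have hF := IsCharacter.indFun (G := G) (isCharacter_of_irr hχ)
  have hF1 : Cfsg.indFun H χ 1 = ((H.index * deg (θ : M → ℂ) : ℕ) : ℂ) := by
    rw [indFun_one, hχ1, Nat.cast_mul]
  have hFdeg : ¬ p ∣ deg (Cfsg.indFun H χ) := by
    have : deg (Cfsg.indFun H χ) = H.index * deg (θ : M → ℂ) := by
      rw [deg, hF1, Complex.natCast_re, Nat.floor_natCast]
    rw [this]
    exact fun h => (hp.dvd_mul.mp h).elim
      (fun h => P.not_dvd_index (h.trans (Subgroup.index_dvd_of_le le_sup_right))) hθd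
  have hsum0 : ∑ m : M, (θ : M → ℂ) m = 0 := by
    have := classInner_irr_ne (G := M) hθ1
    rw [classInner_def] at this
    simpa [one, Nat.card_pos.ne'] using this
  have h0 : ∑ m : M, Cfsg.indFun H χ m = 0 := by
    simp only [indFun_apply, ← Finset.mul_sum]
    rw [Finset.sum_comm, Finset.sum_eq_zero fun x _ => ?_, mul_zero]
    refine Eq.trans (Fintype.sum_equiv ((MulAut.conjNormal x⁻¹ : MulAut M).toEquiv) _
      (fun m => (θ : M → ℂ) m) fun m => ?_) hsum0
    have hmem : x⁻¹ * (m : G) * x ∈ M := by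
      simpa using (inferInstance : M.Normal).conj_mem _ m.2 x⁻¹
    rw [extendByZero_mem χ (hMH hmem)]
    rw [show (⟨x⁻¹ * (m : G) * x, hMH hmem⟩ : H) = ((⟨⟨_, hMH hmem⟩, hmem⟩ : M') : H) from rfl,
      hχM]
    exact congrArg (θ : M → ℂ) (Subtype.ext (by simp [e]))
  obtain ⟨a, ha⟩ : ∃ a, g ^ p ^ a = 1 := by
    obtain ⟨a, ha⟩ := P.2 ⟨g, hgP⟩
    exact ⟨a, by simpa using congrArg Subtype.val ha⟩
  exact apply_ne_zero_of_not_dvd hF hp ha hFdeg
    (char_vanish_of_elt (coPart_le p N) hF h0 hg)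

/-- If `p` divides `|G : N|` then the subgroup generated by the `p'`-elements of `N` has order
prime to `p`. -/
theorem not_dvd_card_coPart [Finite G] {N : Subgroup G} [N.Normal] (h : IsPair N) {p : ℕ}
    (hp : p.Prime) (hidx : p ∣ N.index) : ¬ p ∣ Nat.card (coPart p N) := by
  haveI := Fact.mk hp
  obtain ⟨P⟩ : Nonempty (Sylow p G) := inferInstance
  have hPN : ¬ (P : Subgroup G) ≤ N := fun hle =>
    P.not_dvd_index (dvd_trans hidx (Subgroup.index_dvd_of_le hle))
  obtain ⟨g, hgP, hgN⟩ := SetLike.not_le_iff_exists.mp hPN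
  obtain ⟨k, hk⟩ := P.2 ⟨g, hgP⟩
  exact not_dvd_card_coPart_of_elt hp ⟨k, by simpa using congrArg Subtype.val hk⟩ (h g hgN)

/-- For a `p`-element `g` outside `N`, no non-identity element of `N` of order prime to `p`
centralises `g`. -/
theorem eq_one_of_commute [Finite G] {N : Subgroup G} (h : IsPair N) {g x : G} (hg : g ∉ N)
    (hx : x ∈ N) (hc : Commute g x) (hcop : Nat.Coprime (orderOf g) (orderOf x)) : x = 1 := by
  obtain ⟨y, hy⟩ := h g hg x hx
  have h1 : orderOf (g * x) = orderOf g := by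
    rw [← hy, ← MulAut.conj_apply, MulEquiv.orderOf_eq]
  rw [hc.orderOf_mul_eq_mul_orderOf_of_coprime hcop] at h1
  exact orderOf_eq_one_iff.mp
    ((Nat.mul_eq_left (orderOf_pos g).ne').mp h1)

/-- If `N` is nilpotent and `p` divides `|N|` and `|G : N|`, no other prime divides `|N|`. -/
theorem nilpotent_case [Finite G] {N : Subgroup G} [N.Normal] (h : IsPair N)
    (hnil : Group.IsNilpotent N) {p r : ℕ} (hp : p.Prime) (hr : r.Prime) (hpr : p ≠ r)
    (hpi : p ∣ N.index) (hpN : p ∣ Nat.card N) (hrN : r ∣ Nat.card N) : False := by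
  classical
  haveI := Fact.mk hp
  haveI := Fact.mk hr
  -- the Sylow subgroups of `N`
  obtain ⟨Kp⟩ : Nonempty (Sylow p N) := inferInstance
  obtain ⟨Rr⟩ : Nonempty (Sylow r N) := inferInstance
  have hKn : (Kp : Subgroup N).Normal :=
    ((Group.isNilpotent_of_finite_tfae (G := N)).out 0 3 rfl rfl).mp hnil p ⟨hp⟩ Kp
  have hRn : (Rr : Subgroup N).Normal :=
    ((Group.isNilpotent_of_finite_tfae (G := N)).out 0 3 rfl rfl).mp hnil r ⟨hr⟩ Rr
  haveI : (Kp : Subgroup N).Characteristic := Sylow.characteristic_of_normal Kp hKn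
  haveI : (Rr : Subgroup N).Characteristic := Sylow.characteristic_of_normal Rr hRn
  set K := (Kp : Subgroup N).map N.subtype with hK
  set R := (Rr : Subgroup N).map N.subtype with hR
  haveI : K.Normal := ConjAct.normal_of_characteristic_of_normal
  haveI : R.Normal := ConjAct.normal_of_characteristic_of_normal
  have hKN : K ≤ N := map_subtype_le _
  have hRN : R ≤ N := map_subtype_le _
  have hKp : IsPGroup p K := Kp.2.map _
  have hRr : IsPGroup r R := Rr.2.map _
  have hKR : K ⊓ R = ⊥ := disjoint_iff.mp (hKp.disjoint_of_ne p r hpr K R hRr)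
  have hRne : R ≠ ⊥ := fun hbot => by
    rw [hR, map_eq_bot_iff_of_injective _ N.subtype_injective] at hbot
    have := Rr.ne_bot_of_dvd_card hrN
    exact this hbot
  have hKne : K ≠ ⊥ := fun hbot => by
    rw [hK, map_eq_bot_iff_of_injective _ N.subtype_injective] at hbot
    exact Kp.ne_bot_of_dvd_card hpN hbot
  -- `p`-elements of `N` lie in `K`
  have hpK : ∀ D : Subgroup G, IsPGroup p D → D ⊓ N ≤ K := by
    intro D hD x hx
    obtain ⟨hxD, hxN⟩ := mem_inf.mp hx
    have h1 : IsPGroup p (D.subgroupOf N) :=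
      hD.comap_of_injective N.subtype N.subtype_injective
    obtain ⟨Q, hQ⟩ := h1.exists_le_sylow
    haveI := Sylow.unique_of_normal Kp hKn
    rw [Subsingleton.elim Q Kp] at hQ
    exact ⟨⟨x, hxN⟩, hQ hxD, rfl⟩
  -- a `p`-element of `G` maximising the order modulo `N`
  obtain ⟨a, ⟨ka, hka⟩, hamax⟩ : ∃ a : G, (∃ k, orderOf a = p ^ k) ∧
      ∀ b : G, (∃ k, orderOf b = p ^ k) →
        orderOf (QuotientGroup.mk' N b) ≤ orderOf (QuotientGroup.mk' N a) := by
    haveI := Fintype.ofFinite G
    obtain ⟨a, ha, hmax⟩ := Finset.exists_max_image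
      (Finset.univ.filter fun a : G => ∃ k, orderOf a = p ^ k)
      (fun b => orderOf (QuotientGroup.mk' N b)) ⟨1, by simpa using ⟨0, by simp⟩⟩
    exact ⟨a, (Finset.mem_filter.mp ha).2, fun b hb => hmax b (by simpa using hb)⟩
  obtain ⟨P⟩ : Nonempty (Sylow p G) := inferInstance
  have hPN : ¬ (P : Subgroup G) ≤ N := fun hle =>
    P.not_dvd_index (dvd_trans hpi (Subgroup.index_dvd_of_le hle))
  have haN : a ∉ N := by
    obtain ⟨g, hgP, hgN⟩ := SetLike.not_le_iff_exists.mp hPN
    intro haN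
    have h2 := hamax g (by
      obtain ⟨k, hk⟩ := (IsPGroup.iff_orderOf.mp P.2) ⟨g, hgP⟩
      exact ⟨k, by rwa [Subgroup.orderOf_mk] at hk⟩)
    rw [show QuotientGroup.mk' N a = 1 from (QuotientGroup.eq_one_iff a).mpr haN, orderOf_one] at h2
    have h3 : orderOf (QuotientGroup.mk' N g) ≠ 1 := fun e => hgN
      ((QuotientGroup.eq_one_iff g).mp (orderOf_eq_one_iff.mp e))
    have := orderOf_pos (QuotientGroup.mk' N g)
    omega
  obtain ⟨e, -, he⟩ := (Nat.dvd_prime_pow hp).mp
    (hka ▸ orderOf_map_dvd (QuotientGroup.mk' N) a)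
  -- the `p`-part of the centraliser modulo `N` is cyclic
  set Cb := centralizer ({QuotientGroup.mk' N a} : Set (G ⧸ N)) with hCb
  have hTle : ∀ T : Subgroup (G ⧸ N), T ≤ Cb → IsPGroup p T → Nat.card T ≤ p ^ e := by
    intro T hT hTp
    have haC : QuotientGroup.mk' N a ∈ Cb := mem_centralizer_singleton_iff.mpr rfl
    by_contra hbig
    push Not at hbig
    -- pick `y ∈ T` outside `⟨ā⟩`
    obtain ⟨y, hyT, hy⟩ : ∃ y ∈ T, y ∉ zpowers (QuotientGroup.mk' N a) := by
      by_contra hc
      push Not at hc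
      have := card_le_of_le (H := T) hc
      rw [Nat.card_zpowers, he] at this
      omega
    obtain ⟨ky, hky⟩ := IsPGroup.iff_orderOf.mp hTp ⟨y, hyT⟩
    rw [Subgroup.orderOf_mk] at hky
    -- an abelian `p`-group `A2 = ⟨ā, y⟩` and a `p`-group mapping onto it
    set A2 := closure ({QuotientGroup.mk' N a, y} : Set (G ⧸ N)) with hA2
    have hyc : y * QuotientGroup.mk' N a = QuotientGroup.mk' N a * y :=
      mem_centralizer_singleton_iff.mp (hT hyT)
    haveI : IsMulCommutative A2 := isMulCommutative_closure (by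
      rintro u (rfl | rfl) v (rfl | rfl)
      · rfl
      · exact hyc.symm
      · exact hyc
      · rfl)
    have hA2p : IsPGroup p A2 := by
      intro z
      refine ⟨max ky e, ?_⟩
      apply Subtype.ext
      rw [SubmonoidClass.coe_pow, OneMemClass.coe_one]
      refine closure_induction (p := fun z _ => z ^ p ^ max ky e = 1) ?_ (one_pow _) ?_ ?_ z.2
      · rintro u (rfl | rfl)
        · exact orderOf_dvd_iff_pow_eq_one.mp (he ▸ pow_dvd_pow p (le_max_right _ _))
        · exact orderOf_dvd_iff_pow_eq_one.mp (hky ▸ pow_dvd_pow p (le_max_left _ _))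
      · intro u v hu hv ihu ihv
        have hcomm : Commute u v := by
          have := (IsMulCommutative.is_comm (M := A2)).comm ⟨u, hu⟩ ⟨v, hv⟩
          exact congrArg Subtype.val this
        rw [hcomm.mul_pow, ihu, ihv, one_mul]
      · intro u _ ihu
        rw [inv_pow, ihu, inv_one]
    obtain ⟨D0⟩ : Nonempty (Sylow p (A2.comap (QuotientGroup.mk' N))) := inferInstance
    set D := (D0 : Subgroup _).map (A2.comap (QuotientGroup.mk' N)).subtype with hD
    have hDp : IsPGroup p D := D0.2.map _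
    let π : (A2.comap (QuotientGroup.mk' N)) →* A2 :=
      ((QuotientGroup.mk' N).comp (A2.comap (QuotientGroup.mk' N)).subtype).codRestrict A2
        (fun z => z.2)
    have hπ : Function.Surjective π := fun z => by
      obtain ⟨w, hw⟩ := QuotientGroup.mk'_surjective N z
      exact ⟨⟨w, by rw [mem_comap, hw]; exact z.2⟩, Subtype.ext hw⟩
    have hDimg : D.map (QuotientGroup.mk' N) = A2 := by
      have htop : (D0 : Subgroup _).map π = ⊤ := by
        have := (D0.mapSurjective hπ).3 (Q := ⊤) (hA2p.to_subgroup ⊤) le_top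
        rw [Sylow.coe_mapSurjective] at this
        exact this.symm
      calc D.map (QuotientGroup.mk' N)
          = ((D0 : Subgroup _).map π).map A2.subtype := by
            rw [hD, map_map, map_map]; rfl
        _ = A2 := by rw [htop, ← MonoidHom.range_eq_map, range_subtype]
    -- pass to `G / K`
    set Aq := D.map (QuotientGroup.mk' K) with hAq
    set Rq := R.map (QuotientGroup.mk' K) with hRq
    haveI : Rq.Normal := Normal.map inferInstance _ (QuotientGroup.mk'_surjective K)
    have hnorm : Aq ≤ normalizer (Rq : Set (G ⧸ K)) := by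
      rw [normalizer_eq_top]; exact le_top
    have hfpf : Cfsg.Lib.Frobenius.Fpf Aq Rq := by
      rintro _ ⟨d, hd, rfl⟩ hd1
      rw [eq_bot_iff]
      rintro _ ⟨⟨x, hx, rfl⟩, hc⟩
      rw [mem_bot]
      replace hc := mem_centralizer_singleton_iff.mp hc
      have hdN : d ∉ N := fun hdN => hd1
        ((QuotientGroup.eq_one_iff d).mpr (hpK D hDp ⟨hd, hdN⟩))
      have hcom : d * x * d⁻¹ * x⁻¹ ∈ K ⊓ R := by
        refine ⟨(QuotientGroup.eq_one_iff _).mp ?_,
          R.mul_mem ((inferInstance : R.Normal).conj_mem x hx d) (R.inv_mem hx)⟩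
        change QuotientGroup.mk' K (d * x * d⁻¹ * x⁻¹) = 1
        rw [map_mul, map_mul, map_mul, map_inv, map_inv, ← hc]
        group
      rw [hKR, mem_bot, mul_inv_eq_one, mul_inv_eq_iff_eq_mul] at hcom
      have hx1 : x = 1 := by
        refine eq_one_of_commute h hdN (hRN hx) hcom ?_
        obtain ⟨i, hi⟩ := (IsPGroup.iff_orderOf.mp hDp) ⟨d, hd⟩
        obtain ⟨j, hj⟩ := (IsPGroup.iff_orderOf.mp hRr) ⟨x, hx⟩
        rw [Subgroup.orderOf_mk] at hi hj
        rw [hi, hj]
        exact Nat.coprime_pow_primes _ _ hp hr hpr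
      rw [hx1, map_one]
    haveI : IsMulCommutative Aq := by
      refine ⟨⟨?_⟩⟩
      rintro ⟨_, d1, hd1, rfl⟩ ⟨_, d2, hd2, rfl⟩
      apply Subtype.ext
      show QuotientGroup.mk' K d1 * QuotientGroup.mk' K d2 = _ * _
      rw [← commutatorElement_eq_one_iff_mul_comm, ← map_commutatorElement]
      refine (QuotientGroup.eq_one_iff _).mpr (hpK D hDp ⟨?_, (QuotientGroup.eq_one_iff _).mp ?_⟩)
      · rw [commutatorElement_def]
        exact D.mul_mem (D.mul_mem (D.mul_mem hd1 hd2) (D.inv_mem hd1)) (D.inv_mem hd2)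
      · change QuotientGroup.mk' N ⁅d1, d2⁆ = 1
        rw [map_commutatorElement, commutatorElement_eq_one_iff_mul_comm]
        have hm1 : QuotientGroup.mk' N d1 ∈ A2 := hDimg ▸ mem_map_of_mem _ hd1
        have hm2 : QuotientGroup.mk' N d2 ∈ A2 := hDimg ▸ mem_map_of_mem _ hd2
        exact congrArg Subtype.val ((IsMulCommutative.is_comm (M := A2)).comm ⟨_, hm1⟩ ⟨_, hm2⟩)
    have hRqne : Rq ≠ ⊥ := by
      rw [hRq, ne_eq, Subgroup.map_eq_bot_iff, QuotientGroup.ker_mk']
      intro hle
      exact hRne (le_bot_iff.mp (hKR ▸ le_inf hle le_rfl))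
    haveI := hfpf.isCyclic_of_comm hnorm hRqne
    obtain ⟨⟨_, d, hd, rfl⟩, hgen⟩ := IsCyclic.exists_generator (α := Aq)
    -- the image of `d` generates `A2`
    have hdgen : A2 ≤ zpowers (QuotientGroup.mk' N d) := by
      rw [← hDimg]
      rintro _ ⟨w, hw, rfl⟩
      obtain ⟨i, hi⟩ := mem_zpowers_iff.mp (hgen ⟨_, w, hw, rfl⟩)
      have hi' : QuotientGroup.mk' K (d ^ i) = QuotientGroup.mk' K w := by
        rw [map_zpow]; simpa using congrArg Subtype.val hi
      have hwK : (d ^ i)⁻¹ * w ∈ N := hKN ((QuotientGroup.eq).mp hi')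
      refine mem_zpowers_iff.mpr ⟨i, ?_⟩
      rw [← map_zpow]
      exact QuotientGroup.eq.mpr hwK
    have hle := hamax d ((IsPGroup.iff_orderOf.mp hDp ⟨d, hd⟩).imp fun i hi => by
      rwa [Subgroup.orderOf_mk] at hi)
    rw [he] at hle
    have hale : zpowers (QuotientGroup.mk' N a) ≤ zpowers (QuotientGroup.mk' N d) :=
      zpowers_le.mpr (hdgen (subset_closure (Or.inl rfl)))
    have heq : zpowers (QuotientGroup.mk' N a) = zpowers (QuotientGroup.mk' N d) :=
      eq_of_le_of_card_ge hale (by rw [Nat.card_zpowers, Nat.card_zpowers, he]; exact hle)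
    exact hy (heq ▸ hdgen (subset_closure (Or.inr rfl)))
  -- but `⟨a⟩ C_K(a)` is too large
  have hfix : K ⊓ centralizer ({a} : Set G) ≠ ⊥ := by
    have hZp : IsPGroup p (zpowers a) := by
      refine IsPGroup.iff_card.mpr ⟨ka, ?_⟩
      rw [Nat.card_zpowers, hka]
    letI : MulAction (zpowers a) K :=
      MulAction.compHom K ((MulAut.conjNormal (H := K)).comp (zpowers a).subtype)
    have hdvd : p ∣ Nat.card K := by
      obtain ⟨n, hn⟩ := IsPGroup.iff_card.mp hKp
      rcases n with _ | n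
      · exact absurd (Subgroup.card_eq_one.mp (by rw [hn, pow_zero])) hKne
      · exact hn ▸ dvd_pow_self p n.succ_ne_zero
    obtain ⟨x, hx, hx1⟩ := hZp.exists_fixed_point_of_prime_dvd_card_of_fixed_point K hdvd
      (a := 1) (fun z => map_one ((MulAut.conjNormal (H := K)) (z : G)))
    intro hbot
    have hxc : (x : G) ∈ K ⊓ centralizer ({a} : Set G) := by
      refine ⟨x.2, mem_centralizer_singleton_iff.mpr ?_⟩
      have := congrArg Subtype.val (hx ⟨a, mem_zpowers a⟩)
      change a * (x : G) * a⁻¹ = x at this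
      exact (mul_inv_eq_iff_eq_mul.mp this).symm
    rw [hbot, mem_bot] at hxc
    exact hx1 (Subtype.ext hxc.symm)
  set Z := K ⊓ centralizer ({a} : Set G) with hZ
  set S := zpowers a ⊔ Z with hS
  have hScomm : zpowers a ≤ normalizer (Z : Set G) := by
    rw [zpowers_le, mem_normalizer_iff]
    intro z
    suffices hh : ∀ w, (a * w = w * a) → a * w * a⁻¹ = w by
      constructor
      · intro hz
        rwa [hh z (mem_centralizer_singleton_iff.mp hz.2).symm]
      · intro hz
        have hz2 : a * (a * z * a⁻¹) = a * z * a⁻¹ * a := (mem_centralizer_singleton_iff.mp hz.2).symm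
        have : a * z = z * a := by
          have := congrArg (fun u => a⁻¹ * u) hz2
          simp only [mul_assoc, inv_mul_cancel_left, inv_mul_cancel, mul_one] at this
          calc a * z = a * (z * a⁻¹) * a := by group
            _ = z * a := by rw [this]
        rwa [hh z this] at hz
    intro w hw
    rw [hw]; group
  have hSC : S ≤ centralizer ({a} : Set G) :=
    sup_le (zpowers_le.mpr (mem_centralizer_singleton_iff.mpr rfl)) inf_le_right
  have hZp' : IsPGroup p Z := hKp.to_le inf_le_left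
  have hap : IsPGroup p (zpowers a) := IsPGroup.iff_card.mpr ⟨ka, by rw [Nat.card_zpowers, hka]⟩
  have hSp : IsPGroup p S := IsPGroup.to_sup_of_normal_right' hap hZp' hScomm
  have hcard : p ^ (e + 1) ∣ Nat.card S := by
    let f := (QuotientGroup.mk' N).comp S.subtype
    have h1 := f.ker.card_mul_index
    rw [index_ker] at h1
    have hr : f.range = zpowers (QuotientGroup.mk' N a) := by
      rw [MonoidHom.range_comp, range_subtype, hS, Subgroup.map_sup, MonoidHom.map_zpowers, sup_eq_left]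
      rw [(Subgroup.map_eq_bot_iff _).mpr ((QuotientGroup.ker_mk' N).symm ▸ inf_le_left.trans hKN)]
      exact bot_le
    rw [hr, Nat.card_zpowers, he] at h1
    have hker : f.ker ≠ ⊥ := by
      intro hb
      refine hfix (eq_bot_iff.mpr fun z hz => ?_)
      have hzS : z ∈ S := mem_sup_right hz
      have hzk : (⟨z, hzS⟩ : S) ∈ f.ker := (QuotientGroup.eq_one_iff z).mpr (hKN hz.1)
      rw [hb, mem_bot] at hzk
      exact mem_bot.mpr (congrArg Subtype.val hzk)
    obtain ⟨i, hi⟩ := IsPGroup.iff_card.mp (hSp.to_subgroup f.ker)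
    rcases i with _ | i
    · exact absurd (Subgroup.card_eq_one.mp (by rw [hi, pow_zero])) hker
    · rw [← h1, hi, add_comm e 1, pow_add, pow_one]
      exact mul_dvd_mul (dvd_pow_self p i.succ_ne_zero) dvd_rfl
  have hdvdC : p ^ (e + 1) ∣ Nat.card Cb := by
    rw [← card_centralizer h haN]
    exact hcard.trans (card_dvd_of_le hSC)
  obtain ⟨T, hT⟩ := Sylow.exists_subgroup_card_pow_prime p hdvdC
  have := hTle (T.map Cb.subtype) (map_subtype_le _)
    ((IsPGroup.of_card hT).map _)
  rw [card_map_of_injective Cb.subtype_injective, hT] at this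
  have h2 := Nat.pow_lt_pow_right hp.one_lt (Nat.lt_succ_self e)
  exact absurd this (not_le.mpr h2)

end Cfsg.Lib.Camina
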