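import Mathlib
import Cfsg.Agent.Camina.Pair
import Cfsg.Agent.Thompson.FixedPointFree

/-!
# The trichotomy for pairs `(G, N)` with cosets of `N` inside conjugacy classes
-/

set_option autoImplicit false
set_option linter.unusedSectionVars false

namespace Cfsg.Lib.Camina

open Subgroup

universe u

variable {G : Type u} [Group G] [Finite G] {N : Subgroup G} [N.Normal]

theorem IsPair.quotient (h : IsPair N) (M : Subgroup G) [M.Normal] (hMN : M ≤ N) :
    IsPair (N.map (QuotientGroup.mk' M)) := by
  intro g hg n hn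
  obtain ⟨g, rfl⟩ := QuotientGroup.mk'_surjective M g
  obtain ⟨m, hm, rfl⟩ := mem_map.mp hn
  obtain ⟨x, hx⟩ := h g (fun hgN => hg (mem_map_of_mem _ hgN)) m hm
  exact ⟨QuotientGroup.mk' M x, by rw [← map_inv, ← map_mul, ← map_mul, hx, map_mul]⟩

/-- A `p`-element outside `N`, when `p` divides the index. -/
theorem exists_prime_elt {p : ℕ} (hp : p.Prime) (hpi : p ∣ N.index) :
    ∃ g : G, g ∉ N ∧ ∃ k, orderOf g = p ^ k := by
  haveI := Fact.mk hp
  obtain ⟨P⟩ : Nonempty (Sylow p G) := inferInstance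
  have hPN : ¬ (P : Subgroup G) ≤ N := fun hle =>
    P.not_dvd_index (dvd_trans hpi (Subgroup.index_dvd_of_le hle))
  obtain ⟨g, hgP, hgN⟩ := SetLike.not_le_iff_exists.mp hPN
  obtain ⟨k, hk⟩ := IsPGroup.iff_orderOf.mp P.2 ⟨g, hgP⟩
  exact ⟨g, hgN, k, by rwa [Subgroup.orderOf_mk] at hk⟩

/-- A prime dividing the index but not `|N|` makes `N` nilpotent. -/
theorem isNilpotent_of_not_dvd (h : IsPair N) {q : ℕ} (hq : q.Prime) (hqi : q ∣ N.index)
    (hqN : ¬ q ∣ Nat.card N) : Group.IsNilpotent N := by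
  haveI := Fact.mk hq
  have hqG : q ∣ Nat.card G := hqi.trans N.index_dvd_card
  obtain ⟨y, hy⟩ := exists_prime_orderOf_dvd_card' q hqG
  have hyN : y ∉ N := fun hyN => hqN (hy ▸ Subgroup.orderOf_dvd_natCard N hyN)
  refine Cfsg.Lib.Thompson.isNilpotent_of_fpf (MulAut.conjNormal (H := N) y).toMonoidHom ?_ hq ?_
  · intro x hx
    have hc : Commute y (x : G) := by
      have := congrArg Subtype.val hx
      change y * (x : G) * y⁻¹ = x at this
      exact mul_inv_eq_iff_eq_mul.mp this
    refine Subtype.ext (eq_one_of_commute h hyN x.2 hc ?_)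
    rw [hy, Subgroup.orderOf_coe]
    exact hq.coprime_iff_not_dvd.mpr fun hd => hqN (hd.trans (orderOf_dvd_natCard x))
  · funext x
    apply Subtype.ext
    have hit : ∀ m : ℕ, (((MulAut.conjNormal (H := N) y).toMonoidHom^[m] x : N) : G) =
        y ^ m * (x : G) * (y ^ m)⁻¹ := by
      intro m
      induction m with
      | zero => simp
      | succ m ih =>
        rw [Function.iterate_succ_apply', MulEquiv.coe_toMonoidHom, MulAut.conjNormal_apply]
        rw [MulEquiv.coe_toMonoidHom] at ih
        rw [ih, pow_succ']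
        group
    rw [hit, ← hy, pow_orderOf_eq_one]
    simp

/-- The trichotomy. -/
theorem trichotomy (h : IsPair N) (hN1 : N ≠ ⊥) (hN2 : N ≠ ⊤) :
    (∀ x ∈ N, x ≠ 1 → centralizer ({x} : Set G) ≤ N) ∨ IsPrimePow (Nat.card N) ∨
      IsPrimePow N.index := by
  by_contra hcon
  push Not at hcon
  obtain ⟨⟨x, hx, hx1, hC⟩, hNpp, hIpp⟩ := hcon
  have hN1' : 1 < Nat.card N := (Subgroup.one_lt_card_iff_ne_bot N).mpr hN1
  have hI1 : 1 < N.index := by
    have := N.index_ne_zero_of_finite
    have h' : N.index ≠ 1 := fun e => hN2 (Subgroup.index_eq_one.mp e)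
    omega
  -- a prime dividing both
  obtain ⟨g, hgC, hgN⟩ := SetLike.not_le_iff_exists.mp hC
  obtain ⟨p, hp, hpN, hpi⟩ : ∃ p, p.Prime ∧ p ∣ Nat.card N ∧ p ∣ N.index := by
    obtain ⟨p, hp, hpc⟩ := Nat.exists_prime_and_dvd (n := Nat.card (N ⊓ centralizer ({g} : Set G) :
      Subgroup G)) (fun e => hx1 (by
        have hmem : x ∈ N ⊓ centralizer ({g} : Set G) := ⟨hx, mem_centralizer_singleton_iff.mpr
          (mem_centralizer_singleton_iff.mp hgC).symm⟩
        rw [Subgroup.card_eq_one.mp e, mem_bot] at hmem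
        exact hmem))
    refine ⟨p, hp, hpc.trans (card_dvd_of_le inf_le_left), ?_⟩
    have h1 : p ∣ Nat.card (centralizer ({g} : Set G)) := hpc.trans (card_dvd_of_le inf_le_right)
    rw [card_centralizer h hgN] at h1
    exact h1.trans (Subgroup.card_subgroup_dvd_card _)
  haveI := Fact.mk hp
  have hother : ∀ m : ℕ, 1 < m → p ∣ m → ¬ IsPrimePow m → ∃ q, q.Prime ∧ q ≠ p ∧ q ∣ m := by
    intro m hm hpm hpp
    by_contra hc
    push Not at hc
    apply hpp
    have := Nat.eq_prime_pow_of_unique_prime_dvd (p := p) (n := m) (by omega)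
      (fun {d} hd hdm => by_contra fun hne => hc d hd hne hdm)
    refine this ▸ hp.isPrimePow.pow fun hz => ?_
    rw [hz, pow_zero] at this
    omega
  obtain ⟨q, hq, hqp, hqi⟩ := hother _ hI1 hpi hIpp
  haveI := Fact.mk hq
  by_cases hqN : q ∣ Nat.card N
  · -- pass to the quotient by the intersection of the two `coPart`s
    have hMp := not_dvd_card_coPart h hp hpi
    have hMq := not_dvd_card_coPart h hq hqi
    set M := coPart p N ⊓ coPart q N with hM
    haveI : M.Normal := Subgroup.normal_inf_normal _ _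
    have hMN : M ≤ N := inf_le_left.trans (coPart_le p N)
    set N' := N.map (QuotientGroup.mk' M) with hN'
    haveI : N'.Normal := Normal.map inferInstance _ (QuotientGroup.mk'_surjective M)
    have hcard : Nat.card N' * Nat.card M = Nat.card N := by
      have h1 := ((QuotientGroup.mk' M).comp N.subtype).ker.card_mul_index
      rw [index_ker, MonoidHom.range_comp, range_subtype, ← MonoidHom.comap_ker,
        QuotientGroup.ker_mk'] at h1
      rw [← h1, mul_comm, ← hN']
      congr 1
      exact (Nat.card_congr (subgroupOfEquivOfLe hMN).toEquiv).symm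
    have hdiv : ∀ r : ℕ, r.Prime → r ∣ Nat.card N → ¬ r ∣ Nat.card M → r ∣ Nat.card N' :=
      fun r hr hrN hrM => ((hr.dvd_mul).mp (hcard ▸ hrN)).resolve_right hrM
    have hpN' := hdiv p hp hpN fun hd => hMp (hd.trans (card_dvd_of_le inf_le_left))
    have hqN' := hdiv q hq hqN fun hd => hMq (hd.trans (card_dvd_of_le inf_le_right))
    have hidx : N'.index = N.index := by
      rw [hN', index_map_eq _ (QuotientGroup.mk'_surjective M)
        ((QuotientGroup.ker_mk' M).le.trans hMN)]
    refine nilpotent_case (h.quotient M hMN) ?_ hp hq hqp.symm (hidx ▸ hpi) hpN' hqN'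
    -- `N'` embeds in a product of groups of prime-power order
    have hpg : ∀ (r : ℕ) (hr : r.Prime), IsPGroup r (↥N ⧸ (coPart r N).subgroupOf N) := by
      intro r hr z
      obtain ⟨z, rfl⟩ := QuotientGroup.mk'_surjective _ z
      obtain ⟨k, hk⟩ := exists_pow_mem_coPart hr z.2
      exact ⟨k, by rw [← map_pow]; exact (QuotientGroup.eq_one_iff _).mpr hk⟩
    haveI := (hpg p hp).isNilpotent
    haveI := (hpg q hq).isNilpotent
    set φ : N →* (↥N ⧸ (coPart p N).subgroupOf N) × (↥N ⧸ (coPart q N).subgroupOf N) :=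
      (QuotientGroup.mk' _).prod (QuotientGroup.mk' _) with hφ
    let π : N →* N' := ((QuotientGroup.mk' M).comp N.subtype).codRestrict N'
      fun z => mem_map_of_mem _ z.2
    have hπ : Function.Surjective π := by
      rintro ⟨_, z, hz, rfl⟩
      exact ⟨⟨z, hz⟩, rfl⟩
    have hker : φ.ker = π.ker := by
      ext z
      simp only [hφ, MonoidHom.mem_ker, MonoidHom.prod_apply, Prod.mk_eq_one,
        QuotientGroup.mk'_apply, QuotientGroup.eq_one_iff, mem_subgroupOf, π]
      rw [Subtype.ext_iff]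
      change _ ↔ ((z : G) : G ⧸ M) = 1
      rw [QuotientGroup.eq_one_iff, hM, mem_inf]
    haveI : Group.IsNilpotent φ.range := Subgroup.isNilpotent _
    exact Group.nilpotent_of_surjective
      (((QuotientGroup.quotientKerEquivRange φ).symm.trans
        ((QuotientGroup.quotientMulEquivOfEq hker).trans
          (QuotientGroup.quotientKerEquivOfSurjective π hπ))).toMonoidHom)
      (MulEquiv.surjective _)
  · obtain ⟨r, hr, hrp, hrN⟩ := hother _ hN1' hpN hNpp
    exact nilpotent_case h (isNilpotent_of_not_dvd h hq hqi hqN) hp hr hrp.symm hpi hpN hrN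

end Cfsg.Lib.Camina
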